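import Mathlib
import Cfsg.Prelude.Def_GeometricClasses
import Cfsg.Agent.Helper2.S5886.Defs

/-!
# S5664 piece project: definitions (abstract framework)

`F ⊆ K` finite fields, `V` a `K`-vector space with a `K`-bilinear alternating non-degenerate form `B`;
`trf B = Tr_{K/F} ∘ B` is an `F`-bilinear alternating non-degenerate form.  All groups are subgroups of
`V ≃ₗ[F] V`.  The framework of S5886 (`Cfsg.Agent.S5886P`: `IsSemi`, `Nrm`, `Kline`, `ulie`, `yset`,
`proj`, `StabPt`, `Stab2`, `Stab2c`, `FixSp`, `IsSylIn`) is reused.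
See `departures/helper2_s5664_pieces.md`.
-/

set_option autoImplicit false

namespace Cfsg.Agent.S5664P

open Cfsg.Agent.S5886P

variable {F K V : Type*} [Field F] [Field K] [Algebra F K]
  [AddCommGroup V] [Module F V] [Module K V] [IsScalarTower F K V]

/-- `B` is alternating and non-degenerate. -/
structure IsAltND (B : V →ₗ[K] V →ₗ[K] K) : Prop where
  alt : ∀ x, B x x = 0
  nd : ∀ x, (∀ y, B x y = 0) → x = 0

variable (F) in
/-- the `F`-form `Tr ∘ B`. -/
noncomputable def trf (B : V →ₗ[K] V →ₗ[K] K) (x y : V) : F := Algebra.trace F K (B x y)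

variable (F) in
/-- the isometry group of `trf B` (a symplectic group over `F`). -/
def SpF (B : V →ₗ[K] V →ₗ[K] K) : Subgroup (V ≃ₗ[F] V) where
  carrier := {g | ∀ x y, trf F B (g x) (g y) = trf F B x y}
  mul_mem' := by
    intro a b ha hb x y
    simp only [LinearEquiv.mul_apply]
    rw [ha, hb]
  one_mem' := fun _ _ => rfl
  inv_mem' := by
    intro a ha x y
    have h := ha (a⁻¹ x) (a⁻¹ y)
    have e1 : a (a⁻¹ x) = x := by
      show a (a.symm x) = x
      exact a.apply_symm_apply x
    have e2 : a (a⁻¹ y) = y := by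
      show a (a.symm y) = y
      exact a.apply_symm_apply y
    rw [e1, e2] at h
    exact h.symm

variable (F) in
/-- the `K`-linear isometries of `B`, as `F`-automorphisms (the symplectic group over `K`). -/
def SpK (B : V →ₗ[K] V →ₗ[K] K) : Subgroup (V ≃ₗ[F] V) where
  carrier := {g | (∀ (k : K) (x : V), g (k • x) = k • g x) ∧ ∀ x y, B (g x) (g y) = B x y}
  mul_mem' := by
    rintro a b ⟨ha1, ha2⟩ ⟨hb1, hb2⟩
    refine ⟨fun k x => ?_, fun x y => ?_⟩
    · simp only [LinearEquiv.mul_apply]
      rw [hb1, ha1]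
    · simp only [LinearEquiv.mul_apply]
      rw [ha2, hb2]
  one_mem' := ⟨fun _ _ => rfl, fun _ _ => rfl⟩
  inv_mem' := by
    rintro a ⟨ha1, ha2⟩
    have e : ∀ x, a (a⁻¹ x) = x := fun x => by
      show a (a.symm x) = x
      exact a.apply_symm_apply x
    refine ⟨fun k x => ?_, fun x y => ?_⟩
    · apply a.injective
      rw [ha1, e, e]
    · have h := ha2 (a⁻¹ x) (a⁻¹ y)
      rw [e, e] at h
      exact h.symm

/-- the `σ`-semilinear map `x ↦ (a * σ (B x v)) • v` (an element of `ulie (Kline v)`). -/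
noncomputable def smap (B : V →ₗ[K] V →ₗ[K] K) (v : V) (σ : K ≃ₐ[F] K) (a : K) : V →ₗ[F] V where
  toFun x := (a * σ (B x v)) • v
  map_add' x y := by
    simp only [map_add, LinearMap.add_apply, mul_add, add_smul]
  map_smul' c x := by
    simp only [RingHom.id_apply]
    have h1 : B (c • x) v = c • B x v := by
      rw [← algebraMap_smul K c x, map_smul, LinearMap.smul_apply, algebraMap_smul]
    rw [h1, map_smul, mul_smul_comm, smul_assoc]

theorem smap_apply (B : V →ₗ[K] V →ₗ[K] K) (v : V) (σ : K ≃ₐ[F] K) (a : K) (x : V) :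
    smap B v σ a x = (a * σ (B x v)) • v := rfl

/-- the Galois elements `σ` such that some element of `yset M L` has a non-zero `σ`-component. -/
def Sig' [Finite F] [Finite K] (M : Subgroup (V ≃ₗ[F] V)) (L : Submodule F V) : Set (K ≃ₐ[F] K) :=
  {σ | ∃ A ∈ yset M L, proj σ A ≠ 0}

/-- the set of multipliers `{k : h (k • v) ∈ K v}` as an `F`-subspace of `K`. -/
def Wsub (h : V ≃ₗ[F] V) (v : V) : Submodule F K where
  carrier := {k | h (k • v) ∈ Kline (F := F) (K := K) v}
  add_mem' := by
    intro a b ha hb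
    show h ((a + b) • v) ∈ Kline (F := F) (K := K) v
    rw [add_smul, map_add]
    exact Submodule.add_mem _ ha hb
  zero_mem' := by
    show h ((0 : K) • v) ∈ Kline (F := F) (K := K) v
    rw [zero_smul, map_zero]
    exact Submodule.zero_mem _
  smul_mem' := by
    intro c a ha
    show h ((c • a) • v) ∈ Kline (F := F) (K := K) v
    rw [smul_assoc, map_smul]
    exact Submodule.smul_mem _ c ha

end Cfsg.Agent.S5664P
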